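import Groth.Agent.Lib.CplBC5.Eval
import Mathlib.RingTheory.Ideal.KrullsHeightTheorem
import Mathlib.RingTheory.MvPowerSeries.Inverse
import Mathlib.RingTheory.AdicCompletion.Completeness
import Mathlib.RingTheory.Flat.Localization
import Mathlib.RingTheory.Flat.Stability
import Mathlib.RingTheory.Localization.Ideal
import Mathlib.LinearAlgebra.TensorProduct.RightExactness
import Mathlib.RingTheory.Spectrum.Prime.Topology

/-!
# Presentations of completions under extension of the base field
-/

set_option autoImplicit false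
set_option linter.all false
set_option backward.isDefEq.respectTransparency false
set_option maxHeartbeats 1000000

universe u

open IsLocalRing MvPowerSeries
open scoped TensorProduct

namespace GrothLib.CplBC5

theorem isHausdorff_quot {P : Type u} [CommRing P] (M : Ideal P) (N : ℕ) :
    IsHausdorff (M.map (Ideal.Quotient.mk (M ^ N))) (P ⧸ M ^ N) :=
  isHausdorff_of_pow_eq_bot _ (m := N) (by rw [← Ideal.map_pow, Ideal.map_quotient_self])

theorem isAdicComplete_quot {P : Type u} [CommRing P] (M : Ideal P) (N : ℕ) :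
    IsAdicComplete (M.map (Ideal.Quotient.mk (M ^ N))) (P ⧸ M ^ N) :=
  haveI := isHausdorff_quot M N
  { prec' := fun c hc => ⟨c N, fun r => by
      rcases le_total r N with hr | hr
      · exact hc hr
      · have h := hc hr
        rw [SModEq.sub_mem, smul_eq_mul, Ideal.mul_top, ← Ideal.map_pow, Ideal.map_quotient_self, Submodule.mem_bot,
          sub_eq_zero] at h
        rw [h]; exact SModEq.refl _⟩ }

theorem exists_level_map {S P : Type u} [CommRing S] [CommRing P] {I : Ideal S} (hfg : I.FG) (M : Ideal P) (N : ℕ)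
    (θ : S →+* P) (hθ : ∀ s ∈ I, θ s ∈ M) :
    ∃ Ψ : AdicCompletion I S →+* P ⧸ M ^ N,
      ∀ s, Ψ (algebraMap S (AdicCompletion I S) s) = Ideal.Quotient.mk (M ^ N) (θ s) := by
  haveI := isAdicComplete_quot M N
  exact exists_cpl_lift hfg (M.map (Ideal.Quotient.mk (M ^ N))) ((Ideal.Quotient.mk (M ^ N)).comp θ)
    (fun s hs => Ideal.mem_map_of_mem _ (hθ s hs))

theorem isUnit_ps_iff {L : Type u} [Field L] {n : ℕ} (f : MvPowerSeries (Fin n) L) :
    IsUnit f ↔ constantCoeff f ≠ 0 := by
  rw [MvPowerSeries.isUnit_iff_constantCoeff, isUnit_iff_ne_zero]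

theorem ker_constantCoeff_eq_span {L : Type u} [CommRing L] {n : ℕ} :
    RingHom.ker (constantCoeff : MvPowerSeries (Fin n) L →+* L) = Ideal.span (Set.range X) := by
  rw [AdicFS.ker_constantCoeff, AdicFS.varsIdeal, MvPolynomial.idealOfVars, Ideal.map_span, ← Set.range_comp]
  congr 2
  ext i : 1
  simp [MvPowerSeries.algebraMap_apply']

/-- The ideal of the variables of a power series ring over a field is its maximal ideal. -/
theorem maximalIdeal_ps {L : Type u} [Field L] {n : ℕ} :
    maximalIdeal (MvPowerSeries (Fin n) L) = Ideal.span (Set.range X) := by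
  rw [← ker_constantCoeff_eq_span]
  ext f
  rw [IsLocalRing.mem_maximalIdeal, mem_nonunits_iff, isUnit_ps_iff, not_not, RingHom.mem_ker]

variable (k : Type u) [Field k] (A : Type u) [CommRing A] [IsLocalRing A] [IsNoetherianRing A] [Algebra k A]
  (K : Type u) [Field K] [Algebra k K]
  (S : Type u) [CommRing S] [IsLocalRing S] [IsNoetherianRing S] [Algebra A S] [Algebra (A ⊗[k] K) S]
  [IsScalarTower A (A ⊗[k] K) S] [IsLocalHom (algebraMap A S)]
  (Q : Ideal (A ⊗[k] K)) [Q.IsPrime] [IsLocalization.AtPrime S Q]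

include Q in
/-- If the closed fibre is reduced and the dimension does not grow, `𝔪_A` generates `𝔪_S`. -/
theorem map_maximalIdeal_eq (hdim : ringKrullDim A = ringKrullDim S)
    (hred : _root_.IsReduced (ResidueField A ⊗[k] K)) :
    (maximalIdeal A).map (algebraMap A S) = maximalIdeal S := by
  haveI : Module.Flat A (A ⊗[k] K) := inferInstance
  haveI : Module.Flat (A ⊗[k] K) S := IsLocalization.flat S Q.primeCompl
  haveI : Module.Flat A S := Module.Flat.trans A (A ⊗[k] K) S
  haveI : (maximalIdeal S).LiesOver (maximalIdeal A) := by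
    have h := ((IsLocalRing.local_hom_TFAE (algebraMap A S)).out 0 4 : IsLocalHom (algebraMap A S) ↔ _).1 ‹_›
    exact ⟨h.symm⟩
  set J := (maximalIdeal A).map (algebraMap A S) with hJdef
  have hJle : J ≤ maximalIdeal S := ((IsLocalRing.local_hom_TFAE (algebraMap A S)).out 0 2).1 ‹IsLocalHom (algebraMap A S)›
  -- the fibre has dimension zero
  have hh := Ideal.height_eq_height_add_of_liesOver_of_hasGoingDown (maximalIdeal A) (maximalIdeal S)
  have h0 : ((maximalIdeal S).map (Ideal.Quotient.mk J)).height = 0 := by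
    have h1 : (maximalIdeal S).height = (maximalIdeal A).height := by
      have h := hdim
      rw [← IsLocalRing.maximalIdeal_height_eq_ringKrullDim, ← IsLocalRing.maximalIdeal_height_eq_ringKrullDim] at h
      exact (WithBot.coe_inj.1 h).symm
    rw [h1] at hh
    have hfin : (maximalIdeal A).height ≠ ⊤ := Ideal.height_ne_top Ideal.IsPrime.ne_top'
    have := WithTop.add_left_cancel hfin ((add_zero _).trans hh)
    exact this.symm
  haveI : Nontrivial (S ⧸ J) := Ideal.Quotient.nontrivial_iff.2 fun h => Ideal.IsPrime.ne_top' (top_le_iff.1 (h.ge.trans hJle))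
  haveI : IsLocalRing (S ⧸ J) := IsLocalRing.of_surjective' (Ideal.Quotient.mk J) Ideal.Quotient.mk_surjective
  have hmax : (maximalIdeal S).map (Ideal.Quotient.mk J) = maximalIdeal (S ⧸ J) := by
    exact IsLocalRing.map_maximalIdeal_of_surjective _ Ideal.Quotient.mk_surjective
  -- the fibre is reduced
  have hrad : J.radical = J := by
    let φ : A ⊗[k] K →ₐ[k] ResidueField A ⊗[k] K :=
      Algebra.TensorProduct.map (Ideal.Quotient.mkₐ k (maximalIdeal A)) (AlgHom.id k K)
    have hker : RingHom.ker φ = (maximalIdeal A).map (algebraMap A (A ⊗[k] K)) := by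
      have h := Algebra.TensorProduct.rTensor_ker (R := k) (S := k) (A := A) (C := K) (Ideal.Quotient.mkₐ k (maximalIdeal A))
        (Ideal.Quotient.mkₐ_surjective k _)
      refine h.trans ?_
      rw [show RingHom.ker (Ideal.Quotient.mkₐ k (maximalIdeal A)) = maximalIdeal A from Ideal.mk_ker]
      rfl
    have hrad' : (RingHom.ker φ).radical = RingHom.ker φ := by
      refine le_antisymm (fun z hz => ?_) Ideal.le_radical
      obtain ⟨n, hn⟩ := hz
      rw [RingHom.mem_ker, map_pow] at hn
      rw [RingHom.mem_ker]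
      haveI := hred
      exact IsReduced.eq_zero _ ⟨n, hn⟩
    rw [hJdef, IsScalarTower.algebraMap_eq A (A ⊗[k] K) S, ← Ideal.map_map, ← hker,
      ← IsLocalization.map_radical Q.primeCompl, hrad']
  refine le_antisymm hJle fun s hs => ?_
  have hn : IsNilpotent (Ideal.Quotient.mk J s) := by
    rw [← mem_nilradical, nilradical_eq_sInf, Ideal.mem_sInf]
    intro P hP
    haveI : P.IsPrime := hP
    have hmin : maximalIdeal (S ⧸ J) ∈ minimalPrimes (S ⧸ J) := by
      rw [hmax] at h0
      exact Ideal.height_eq_zero_iff.1 h0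
    have hP' : maximalIdeal (S ⧸ J) ≤ P := hmin.2 ⟨hP, bot_le⟩ (IsLocalRing.le_maximalIdeal hP.ne_top)
    exact hP' (hmax ▸ Ideal.mem_map_of_mem _ hs)
  obtain ⟨m, hm⟩ := hn
  rw [← map_pow, Ideal.Quotient.eq_zero_iff_mem] at hm
  rw [← hrad]
  exact ⟨m, hm⟩

/-- **Presentations of completions after a field extension.** -/
theorem exists_bc_equiv (hQ : Q.comap (algebraMap A (A ⊗[k] K)) = maximalIdeal A)
    (hdim : ringKrullDim A = ringKrullDim S) (hred : _root_.IsReduced (ResidueField A ⊗[k] K))
    {n m : ℕ} (g : Fin m → MvPowerSeries (Fin n) (ResidueField A))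
    (e : (MvPowerSeries (Fin n) (ResidueField A) ⧸ Ideal.span (Set.range g)) ≃+* AdicCompletion (maximalIdeal A) A)
    (hek : ∀ c : k, e (Ideal.Quotient.mk _ (C (algebraMap k (ResidueField A) c))) =
      algebraMap A (AdicCompletion (maximalIdeal A) A) (algebraMap k A c))
    (he : ∀ a : A, e (Ideal.Quotient.mk _ (C (residue A a))) - algebraMap A (AdicCompletion (maximalIdeal A) A) a ∈
      (maximalIdeal A).map (algebraMap A (AdicCompletion (maximalIdeal A) A))) :
    ∃ e' : (MvPowerSeries (Fin n) (ResidueField S) ⧸ Ideal.span (Set.range fun j =>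
        MvPowerSeries.map (σ := Fin n) (ResidueField.map (algebraMap A S)) (g j))) ≃+* AdicCompletion (maximalIdeal S) S,
      (∀ c : K, e' (Ideal.Quotient.mk _ (C (residue S (algebraMap (A ⊗[k] K) S (1 ⊗ₜ c))))) =
        algebraMap S (AdicCompletion (maximalIdeal S) S) (algebraMap (A ⊗[k] K) S (1 ⊗ₜ c))) ∧
      ∀ b : S, e' (Ideal.Quotient.mk _ (C (residue S b))) - algebraMap S (AdicCompletion (maximalIdeal S) S) b ∈
        (maximalIdeal S).map (algebraMap S (AdicCompletion (maximalIdeal S) S)) := by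
  have hmS := map_maximalIdeal_eq k A K S Q hdim hred
  let Ah := AdicCompletion (maximalIdeal A) A
  let Sh := AdicCompletion (maximalIdeal S) S
  let I := Ideal.span (Set.range g)
  let φ : ResidueField A →+* ResidueField S := ResidueField.map (algebraMap A S)
  let g' := fun j => MvPowerSeries.map (σ := Fin n) φ (g j)
  let I' := Ideal.span (Set.range g')
  have hfgA := (maximalIdeal A).fg_of_isNoetherianRing
  have hfgS := (maximalIdeal S).fg_of_isNoetherianRing
  haveI : IsLocalRing Ah := AdicCompletion.isLocalRing_of_fg hfgA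
  haveI : IsLocalRing Sh := AdicCompletion.isLocalRing_of_fg hfgS
  let mAh := (maximalIdeal A).map (algebraMap A Ah)
  let mSh := (maximalIdeal S).map (algebraMap S Sh)
  have hmaxA : maximalIdeal Ah = mAh := AdicCompletion.maximalIdeal_eq_map_of_fg hfgA
  have hmaxS : maximalIdeal Sh = mSh := AdicCompletion.maximalIdeal_eq_map_of_fg hfgS
  haveI : IsAdicComplete mSh Sh := by
    rw [← hmaxS]; exact AdicCompletion.isAdicComplete_of_fg hfgS
  haveI : Nontrivial (MvPowerSeries (Fin n) (ResidueField A) ⧸ I) := e.toEquiv.nontrivial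
  haveI : IsLocalRing (MvPowerSeries (Fin n) (ResidueField A) ⧸ I) :=
    IsLocalRing.of_surjective' (Ideal.Quotient.mk I) Ideal.Quotient.mk_surjective
  have hIle : I ≤ maximalIdeal (MvPowerSeries (Fin n) (ResidueField A)) :=
    IsLocalRing.le_maximalIdeal fun h => by
      rw [← Ideal.Quotient.subsingleton_iff] at h
      exact not_nontrivial _ ‹Nontrivial (MvPowerSeries (Fin n) (ResidueField A) ⧸ I)›
  let q : MvPowerSeries (Fin n) (ResidueField A) →+* Ah := e.toRingHom.comp (Ideal.Quotient.mk I)
  have hq : Function.Surjective q := e.surjective.comp Ideal.Quotient.mk_surjective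
  have hqm : (Ideal.span (Set.range X)).map q = mAh := by
    rw [← maximalIdeal_ps, IsLocalRing.map_maximalIdeal_of_surjective q hq, hmaxA]
  -- the map on completions
  obtain ⟨ρ, hρ⟩ := exists_cpl_lift hfgA mSh ((algebraMap S Sh).comp (algebraMap A S)) (fun a ha =>
    Ideal.mem_map_of_mem _ (hmS ▸ Ideal.mem_map_of_mem _ ha))
  have hρm : mAh.map ρ = mSh := by
    show ((maximalIdeal A).map (algebraMap A Ah)).map ρ = _
    rw [Ideal.map_map, show ρ.comp (algebraMap A Ah) = (algebraMap S Sh).comp (algebraMap A S) from RingHom.ext hρ,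
      ← Ideal.map_map, hmS]
  -- the section of the residue field
  let σ : ResidueField A →+* Ah := q.comp C
  let ψA : A →+* Sh := ρ.comp (σ.comp (residue A))
  let ψK : K →+* Sh := (algebraMap S Sh).comp ((algebraMap (A ⊗[k] K) S).comp
    (Algebra.TensorProduct.includeRight : K →ₐ[k] A ⊗[k] K).toRingHom)
  letI : Algebra k Sh := (ψA.comp (algebraMap k A)).toAlgebra
  have hψK : ∀ c : k, ψK (algebraMap k K c) = ψA (algebraMap k A c) := by
    intro c
    show algebraMap S Sh (algebraMap (A ⊗[k] K) S (Algebra.TensorProduct.includeRight (algebraMap k K c))) = ρ (q (C _))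
    rw [show q (C (residue A (algebraMap k A c))) = algebraMap A Ah (algebraMap k A c) from hek c, hρ,
      AlgHom.commutes, RingHom.comp_apply]
    congr 1
    exact (IsScalarTower.algebraMap_apply A (A ⊗[k] K) S _).symm
  let ψ : A ⊗[k] K →ₐ[k] Sh := Algebra.TensorProduct.productMap
    ({ ψA with commutes' := fun c => rfl } : A →ₐ[k] Sh) ({ ψK with commutes' := hψK } : K →ₐ[k] Sh)
  have hψa : ∀ a c, ψ (a ⊗ₜ c) = ψA a * ψK c := fun a c => Algebra.TensorProduct.productMap_apply_tmul _ _ _ _
  have hψmem : ∀ z, ψ z - algebraMap S Sh (algebraMap (A ⊗[k] K) S z) ∈ mSh := by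
    intro z
    induction z using TensorProduct.induction_on with
    | zero => simp
    | add x y hx hy =>
      rw [map_add, map_add, map_add, add_sub_add_comm]
      exact Ideal.add_mem _ hx hy
    | tmul a c =>
      rw [hψa, show (a ⊗ₜ[k] c : A ⊗[k] K) = algebraMap A (A ⊗[k] K) a * (1 ⊗ₜ c) by
        simp [Algebra.TensorProduct.algebraMap_apply], map_mul, map_mul, ← IsScalarTower.algebraMap_apply A (A ⊗[k] K) S]
      show ψA a * ψK c - algebraMap S Sh (algebraMap A S a) * ψK c ∈ mSh
      rw [← sub_mul, show algebraMap S Sh (algebraMap A S a) = ρ (algebraMap A Ah a) from (hρ a).symm,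
        ← hρm, ← show ρ (σ (residue A a)) = ψA a from rfl, ← map_sub]
      exact Ideal.mul_mem_right _ _ (Ideal.mem_map_of_mem _ (he a))
  have hunit : ∀ z : Q.primeCompl, IsUnit (ψ z.1) := by
    intro z
    have h1 : IsUnit (algebraMap S Sh (algebraMap (A ⊗[k] K) S z.1)) := (IsLocalization.map_units S z).map _
    by_contra hc
    have h2 : ψ z.1 ∈ mSh := hmaxS ▸ (IsLocalRing.mem_maximalIdeal _).2 hc
    have h3 := Ideal.sub_mem _ h2 (hψmem z.1)
    rw [sub_sub_cancel, ← hmaxS, IsLocalRing.mem_maximalIdeal] at h3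
    exact h3 h1
  let lam : S →+* Sh := IsLocalization.lift (g := ψ.toRingHom) hunit
  have hlam : ∀ z, lam (algebraMap (A ⊗[k] K) S z) = ψ z := fun z => IsLocalization.lift_eq hunit z
  have hlamA : ∀ a, lam (algebraMap A S a) = ρ (σ (residue A a)) := fun a => by
    rw [IsScalarTower.algebraMap_apply A (A ⊗[k] K) S, hlam, Algebra.TensorProduct.algebraMap_apply, hψa, map_one, mul_one]
    rfl
  have hlamker : maximalIdeal S ≤ RingHom.ker lam := by
    refine hmS.ge.trans (Ideal.map_le_iff_le_comap.2 ?_)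
    intro a ha
    rw [Ideal.mem_comap, RingHom.mem_ker, hlamA, (residue_eq_zero_iff a).2 ha, map_zero, map_zero]
  let τ : ResidueField S →+* Sh := Ideal.Quotient.lift (maximalIdeal S) lam fun s hs => hlamker hs
  have hτ : ∀ s, τ (residue S s) = lam s := fun s => rfl
  have hlammem : ∀ s, lam s - algebraMap S Sh s ∈ mSh := by
    intro s
    obtain ⟨⟨x, t⟩, hxt⟩ := IsLocalization.surj Q.primeCompl s
    have h1 := hψmem x
    have h2 := hψmem t.1
    rw [← hlam, ← hxt, map_mul, map_mul] at h1
    rw [← hlam] at h2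
    have h3 : (lam s - algebraMap S Sh s) * algebraMap S Sh (algebraMap (A ⊗[k] K) S t.1) ∈ mSh := by
      have h4 := Ideal.sub_mem _ h1 (Ideal.mul_mem_left _ (lam s) h2)
      convert h4 using 1
      ring
    exact (Ideal.unit_mul_mem_iff_mem _ ((IsLocalization.map_units S t).map (algebraMap S Sh))).1 (mul_comm (lam s - _) _ ▸ h3)
  -- the map from the power series ring
  obtain ⟨Φ, hΦC, hΦX⟩ := exists_ps_eval mSh τ (fun i => ρ (q (X i))) (fun i =>
    hρm ▸ Ideal.mem_map_of_mem _ (hqm ▸ Ideal.mem_map_of_mem _ (Ideal.subset_span ⟨i, rfl⟩)))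
  have hcomp : Φ.comp (MvPowerSeries.map (σ := Fin n) φ) = ρ.comp q := by
    refine ps_ext mSh (fun i => ?_) (fun i => ?_) (fun a => ?_) fun i => ?_
    · rw [RingHom.comp_apply, MvPowerSeries.map_X, hΦX]
      exact hρm ▸ Ideal.mem_map_of_mem _ (hqm ▸ Ideal.mem_map_of_mem _ (Ideal.subset_span ⟨i, rfl⟩))
    · exact hρm ▸ Ideal.mem_map_of_mem _ (hqm ▸ Ideal.mem_map_of_mem _ (Ideal.subset_span ⟨i, rfl⟩))
    · obtain ⟨a, rfl⟩ := residue_surjective a
      rw [RingHom.comp_apply, MvPowerSeries.map_C, hΦC, ResidueField.map_residue, hτ, hlamA]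
      rfl
    · rw [RingHom.comp_apply, MvPowerSeries.map_X, hΦX]
      rfl
  have hI' : I' ≤ RingHom.ker Φ := by
    rw [Ideal.span_le]
    rintro _ ⟨j, rfl⟩
    show Φ (MvPowerSeries.map φ (g j)) = 0
    rw [← RingHom.comp_apply, hcomp, RingHom.comp_apply]
    show ρ (e (Ideal.Quotient.mk I (g j))) = 0
    rw [Ideal.Quotient.eq_zero_iff_mem.2 (Ideal.subset_span ⟨j, rfl⟩ : g j ∈ I), map_zero, map_zero]
  have hΦsurj : Function.Surjective Φ := by
    have hmapX : (Ideal.span (Set.range X)).map Φ = mSh := by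
      rw [← hρm, ← hqm, Ideal.map_map, Ideal.map_span, Ideal.map_span, ← Set.range_comp, ← Set.range_comp]
      congr 2
      funext i
      exact hΦX i
    haveI : IsHausdorff ((Ideal.span (Set.range X)).map Φ) Sh := by rw [hmapX]; infer_instance
    refine surjective_of_mk_map_comp_surjective (I := Ideal.span (Set.range X)) Φ fun y => ?_
    obtain ⟨z, rfl⟩ := Ideal.Quotient.mk_surjective y
    obtain ⟨s, hs⟩ := exists_sub_mem hfgS z 1
    rw [pow_one] at hs
    refine ⟨C (residue S s), Ideal.Quotient.eq.2 (hmapX.symm ▸ ?_)⟩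
    rw [hΦC, hτ]
    have := Ideal.sub_mem _ (hlammem s) hs
    convert this using 1
    ring
  -- the inverse on the levels
  have hg'le : I' ≤ maximalIdeal (MvPowerSeries (Fin n) (ResidueField S)) := by
    rw [Ideal.span_le]
    rintro _ ⟨j, rfl⟩
    have h := hIle (Ideal.subset_span ⟨j, rfl⟩ : g j ∈ I)
    rw [maximalIdeal_ps, ← ker_constantCoeff_eq_span, RingHom.mem_ker] at h
    rw [SetLike.mem_coe, maximalIdeal_ps, ← ker_constantCoeff_eq_span, RingHom.mem_ker,
      MvPowerSeries.constantCoeff_map, h, map_zero]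
  let P' := MvPowerSeries (Fin n) (ResidueField S) ⧸ I'
  haveI : Nontrivial P' := Ideal.Quotient.nontrivial_iff.2 fun h =>
    Ideal.IsPrime.ne_top' (top_le_iff.1 (h.ge.trans hg'le))
  haveI : IsLocalRing P' := IsLocalRing.of_surjective' (Ideal.Quotient.mk I') Ideal.Quotient.mk_surjective
  let cc : P' →+* ResidueField S := Ideal.Quotient.lift I' constantCoeff fun f hf => by
    have h := hg'le hf
    rwa [maximalIdeal_ps, ← ker_constantCoeff_eq_span, RingHom.mem_ker] at h
  let eP : MvPowerSeries (Fin n) (ResidueField A) ⧸ I →+* P' :=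
    Ideal.quotientMap I' (MvPowerSeries.map φ) (by
      rw [Ideal.span_le]
      rintro _ ⟨j, rfl⟩
      exact Ideal.subset_span ⟨j, rfl⟩)
  let θA : A →+* P' := (eP.comp e.symm.toRingHom).comp (algebraMap A Ah)
  let θK : K →+* P' := (Ideal.Quotient.mk I').comp (C.comp ((residue S).comp ((algebraMap (A ⊗[k] K) S).comp
    (Algebra.TensorProduct.includeRight : K →ₐ[k] A ⊗[k] K).toRingHom)))
  letI : Algebra k P' := (θA.comp (algebraMap k A)).toAlgebra
  have hθK : ∀ c : k, θK (algebraMap k K c) = θA (algebraMap k A c) := by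
    intro c
    show Ideal.Quotient.mk I' (C (residue S (algebraMap (A ⊗[k] K) S
      (Algebra.TensorProduct.includeRight (algebraMap k K c))))) = eP (e.symm (algebraMap A Ah (algebraMap k A c)))
    rw [← hek, RingEquiv.symm_apply_apply, AlgHom.commutes,
      show algebraMap k (A ⊗[k] K) c = algebraMap A (A ⊗[k] K) (algebraMap k A c) from rfl,
      ← IsScalarTower.algebraMap_apply]
    show _ = Ideal.Quotient.mk I' (MvPowerSeries.map φ (C (residue A (algebraMap k A c))))
    rw [MvPowerSeries.map_C]
    rfl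
  let θ : A ⊗[k] K →ₐ[k] P' := Algebra.TensorProduct.productMap
    ({ θA with commutes' := fun c => rfl } : A →ₐ[k] P') ({ θK with commutes' := hθK } : K →ₐ[k] P')
  have hθa : ∀ a c, θ (a ⊗ₜ c) = θA a * θK c := fun a c => Algebra.TensorProduct.productMap_apply_tmul _ _ _ _
  have hcc : ∀ z, cc (θ z) = residue S (algebraMap (A ⊗[k] K) S z) := by
    intro z
    induction z using TensorProduct.induction_on with
    | zero => simp
    | add x y hx hy => rw [map_add, map_add, hx, hy, map_add, map_add]
    | tmul a c =>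
      rw [hθa, map_mul, show (a ⊗ₜ[k] c : A ⊗[k] K) = algebraMap A (A ⊗[k] K) a * (1 ⊗ₜ c) by
        simp [Algebra.TensorProduct.algebraMap_apply], map_mul, map_mul, ← IsScalarTower.algebraMap_apply A (A ⊗[k] K) S]
      congr 1
      · show cc (eP (e.symm (algebraMap A Ah a))) = φ (residue A a)
        let u := e.symm (algebraMap A Ah a) - Ideal.Quotient.mk I (C (residue A a))
        have hu : u ∈ maximalIdeal (MvPowerSeries (Fin n) (ResidueField A) ⧸ I) := by
          rw [IsLocalRing.mem_maximalIdeal, mem_nonunits_iff, ← MulEquiv.isUnit_map (f := e)]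
          show ¬ IsUnit (e u)
          rw [← mem_nonunits_iff, ← IsLocalRing.mem_maximalIdeal, hmaxA, map_sub, RingEquiv.apply_symm_apply, ← neg_sub]
          exact neg_mem (he a)
        obtain ⟨f, hf⟩ := Ideal.Quotient.mk_surjective (e.symm (algebraMap A Ah a))
        have hf0 : constantCoeff (f - C (residue A a)) = 0 := by
          by_contra hne
          apply hu
          have h := ((isUnit_ps_iff _).2 hne).map (Ideal.Quotient.mk I)
          rwa [map_sub, hf] at h
        rw [map_sub, MvPowerSeries.constantCoeff_C, sub_eq_zero] at hf0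
        rw [← hf]
        show constantCoeff (MvPowerSeries.map φ f) = _
        rw [MvPowerSeries.constantCoeff_map, hf0]
  have hθunit : ∀ z : Q.primeCompl, IsUnit (θ z.1) := by
    intro z
    obtain ⟨f, hf⟩ := Ideal.Quotient.mk_surjective (θ z.1)
    rw [← hf]
    refine ((isUnit_ps_iff f).2 ?_).map _
    rw [show constantCoeff f = cc (Ideal.Quotient.mk I' f) from rfl, hf, hcc]
    exact ((IsLocalization.map_units S z).map (residue S)).ne_zero
  let Θ : S →+* P' := IsLocalization.lift (g := θ.toRingHom) hθunit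
  have hΘ : ∀ z, Θ (algebraMap (A ⊗[k] K) S z) = θ z := fun z => IsLocalization.lift_eq hθunit z
  have hΘA : ∀ a, Θ (algebraMap A S a) = eP (e.symm (algebraMap A Ah a)) := fun a => by
    rw [IsScalarTower.algebraMap_apply A (A ⊗[k] K) S, hΘ, Algebra.TensorProduct.algebraMap_apply, hθa, map_one, mul_one]
    rfl
  have hΘm : ∀ s ∈ maximalIdeal S, Θ s ∈ maximalIdeal P' := by
    intro s hs
    have : (maximalIdeal S).map Θ ≤ maximalIdeal P' := by
      rw [← hmS, Ideal.map_map, Ideal.map_le_iff_le_comap]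
      intro a ha
      rw [Ideal.mem_comap, RingHom.comp_apply, hΘA, IsLocalRing.mem_maximalIdeal, mem_nonunits_iff]
      intro hu
      have h1 := hu.map cc
      have h2 := hcc (algebraMap A (A ⊗[k] K) a)
      rw [Algebra.TensorProduct.algebraMap_apply, hθa, map_one, mul_one, ← Algebra.TensorProduct.algebraMap_apply,
        ← IsScalarTower.algebraMap_apply A (A ⊗[k] K) S] at h2
      rw [show cc (eP (e.symm (algebraMap A Ah a))) = residue S (algebraMap A S a) from h2,
        (residue_eq_zero_iff _).2 (map_nonunit (algebraMap A S) a ha)] at h1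
      exact not_isUnit_zero h1
    exact this (Ideal.mem_map_of_mem _ hs)
  have hkerΦ : RingHom.ker Φ ≤ I' := by
    intro f hf
    rw [← Ideal.Quotient.eq_zero_iff_mem]
    haveI : IsHausdorff (maximalIdeal P') P' := IsHausdorff.of_isLocalRing (maximalIdeal P') P' Ideal.IsPrime.ne_top'
    refine eq_of_forall_sub_mem (maximalIdeal P') fun N => ?_
    rw [sub_zero, ← Ideal.Quotient.eq_zero_iff_mem]
    obtain ⟨Ψ, hΨ⟩ := exists_level_map hfgS (maximalIdeal P') N Θ hΘm
    let π := Ideal.Quotient.mk (maximalIdeal P' ^ N)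
    let JN := Ideal.map π (maximalIdeal P')
    haveI := isHausdorff_quot (maximalIdeal P') N
    have hΨm : mSh ≤ JN.comap Ψ := by
      rw [Ideal.map_le_iff_le_comap]
      intro s hs
      rw [Ideal.mem_comap, Ideal.mem_comap, hΨ]
      exact Ideal.mem_map_of_mem _ (hΘm s hs)
    have hΨρ : Ψ.comp ρ = π.comp (eP.comp e.symm.toRingHom) := by
      refine cpl_ext hfgA JN (fun a ha => ?_) (fun a ha => ?_) fun a => ?_
      · exact hΨm (hρm ▸ Ideal.mem_map_of_mem _ (Ideal.mem_map_of_mem _ ha))
      · show π (eP (e.symm (algebraMap A Ah a))) ∈ JN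
        rw [← hΘA]
        exact Ideal.mem_map_of_mem _ (hΘm _ (hmS ▸ Ideal.mem_map_of_mem _ ha))
      · show Ψ (ρ (algebraMap A Ah a)) = π (eP (e.symm (algebraMap A Ah a)))
        rw [hρ, RingHom.comp_apply, hΨ, hΘA]
    have hΨq : ∀ f, Ψ (ρ (q f)) = π (Ideal.Quotient.mk I' (MvPowerSeries.map φ f)) := fun f => by
      rw [show Ψ (ρ (q f)) = π (eP (e.symm (q f))) from RingHom.congr_fun hΨρ _]
      show π (eP (e.symm (e (Ideal.Quotient.mk I f)))) = _
      rw [RingEquiv.symm_apply_apply]
      rfl
    have hXmem : ∀ i, π (Ideal.Quotient.mk I' (X i)) ∈ JN := fun i => by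
      refine Ideal.mem_map_of_mem _ ?_
      rw [← IsLocalRing.map_maximalIdeal_of_surjective (Ideal.Quotient.mk I') Ideal.Quotient.mk_surjective, maximalIdeal_ps]
      exact Ideal.mem_map_of_mem _ (Ideal.subset_span ⟨i, rfl⟩)
    have hlamΘ : (Ψ.comp lam).comp (algebraMap (A ⊗[k] K) S) =
        (π.comp ((Ideal.Quotient.mk I').comp (C.comp (residue S)))).comp (algebraMap (A ⊗[k] K) S) := by
      refine RingHom.ext fun z => ?_
      induction z using TensorProduct.induction_on with
      | zero => simp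
      | add x y hx hy => rw [map_add, map_add, hx, hy]
      | tmul a c =>
        simp only [RingHom.comp_apply]
        rw [hlam, hψa, map_mul, show ψA a = ρ (q (C (residue A a))) from rfl, hΨq,
          show (a ⊗ₜ[k] c : A ⊗[k] K) = algebraMap A (A ⊗[k] K) a * (1 ⊗ₜ c) by
            simp [Algebra.TensorProduct.algebraMap_apply]]
        simp only [map_mul, RingHom.comp_apply]
        rw [← IsScalarTower.algebraMap_apply A (A ⊗[k] K) S]
        congr 1
        · rw [MvPowerSeries.map_C]
          rfl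
        · show Ψ (algebraMap S Sh (algebraMap (A ⊗[k] K) S (1 ⊗ₜ c))) = _
          rw [hΨ, hΘ, hθa, map_one, one_mul]
          rfl
    have hΨC : Ψ.comp lam = π.comp ((Ideal.Quotient.mk I').comp (C.comp (residue S))) :=
      IsLocalization.ringHom_ext Q.primeCompl hlamΘ
    have hfin : Ψ.comp Φ = π.comp (Ideal.Quotient.mk I') := by
      refine ps_ext JN (fun i => ?_) hXmem (fun a => ?_) fun i => ?_
      · rw [RingHom.comp_apply, hΦX, hΨq, MvPowerSeries.map_X]
        exact hXmem i
      · obtain ⟨s, rfl⟩ := residue_surjective a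
        rw [RingHom.comp_apply, hΦC, hτ]
        exact RingHom.congr_fun hΨC s
      · rw [RingHom.comp_apply, hΦX, hΨq, MvPowerSeries.map_X]
        rfl
    have := RingHom.congr_fun hfin f
    rw [RingHom.comp_apply, show Φ f = 0 from hf, map_zero] at this
    exact this.symm
  have hker : RingHom.ker Φ = I' := le_antisymm hkerΦ hI'
  let e' : (MvPowerSeries (Fin n) (ResidueField S) ⧸ I') ≃+* Sh :=
    (Ideal.quotEquivOfEq hker.symm).trans (RingHom.quotientKerEquivOfSurjective hΦsurj)
  have he' : ∀ f, e' (Ideal.Quotient.mk I' f) = Φ f := fun f => rfl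
  refine ⟨e', fun c => ?_, fun b => ?_⟩
  · refine (he' _).trans ?_
    rw [hΦC, hτ, hlam, hψa, map_one, one_mul]
    rfl
  · show e' _ - _ ∈ mSh
    rw [he', hΦC, hτ]
    exact hlammem b

end GrothLib.CplBC5
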