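import Groth.Agent.Lib.AdicFS.PowerSeries
import Mathlib.RingTheory.AdicCompletion.RingHom
import Mathlib.RingTheory.AdicCompletion.LocalRing
import Mathlib.RingTheory.AdicCompletion.Noetherian

/-!
# Evaluation of power series in complete rings, maps out of completions
-/

set_option autoImplicit false
set_option linter.all false
set_option maxHeartbeats 600000

universe u

open MvPowerSeries

namespace GrothLib.CplBC5

theorem isHausdorff_of_pow_eq_bot {B : Type u} [CommRing B] (J : Ideal B) {m : ℕ} (h : J ^ m = ⊥) :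
    IsHausdorff J B := ⟨fun x hx => by
  have := hx m
  rw [SModEq.zero, smul_eq_mul, Ideal.mul_top, h] at this
  exact this⟩

theorem eq_of_forall_sub_mem {B : Type u} [CommRing B] (J : Ideal B) [IsHausdorff J B] {a b : B}
    (h : ∀ m : ℕ, a - b ∈ J ^ m) : a = b :=
  sub_eq_zero.1 (IsHausdorff.haus ‹_› _ fun m => by rw [SModEq.zero, smul_eq_mul, Ideal.mul_top]; exact h m)

/-- Maps out of a power series ring are determined by the constants and the variables. -/
theorem ps_ext {L B : Type u} [CommRing L] [CommRing B] {n : ℕ} (J : Ideal B) [IsHausdorff J B]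
    {F G : MvPowerSeries (Fin n) L →+* B} (hF : ∀ i, F (X i) ∈ J) (hG : ∀ i, G (X i) ∈ J)
    (hC : ∀ a, F (C a) = G (C a)) (hX : ∀ i, F (X i) = G (X i)) : F = G := by
  let P := MvPolynomial (Fin n) L
  let ι := algebraMap P (MvPowerSeries (Fin n) L)
  have hp : F.comp ι = G.comp ι := MvPolynomial.ringHom_ext
    (fun a => by simpa [ι, P, MvPowerSeries.algebraMap_apply'] using hC a)
    (fun i => by simpa [ι, P, MvPowerSeries.algebraMap_apply'] using hX i)
  have hmem : ∀ (H : MvPowerSeries (Fin n) L →+* B), (∀ i, H (X i) ∈ J) → ∀ (f : MvPowerSeries (Fin n) L) (m : ℕ),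
      H f - H (ι (truncTotal m f)) ∈ J ^ m := by
    intro H hH f m
    have h := Ideal.mem_map_of_mem H (AdicFS.sub_truncTotal_mem f m)
    rw [Ideal.map_pow, map_sub] at h
    refine Ideal.pow_right_mono ?_ m h
    rw [AdicFS.varsIdeal, MvPolynomial.idealOfVars, Ideal.map_span, Ideal.map_span, Ideal.span_le]
    rintro _ ⟨_, ⟨_, ⟨i, rfl⟩, rfl⟩, rfl⟩
    simpa [MvPowerSeries.algebraMap_apply'] using hH i
  refine RingHom.ext fun f => eq_of_forall_sub_mem J fun m => ?_
  have h := Ideal.sub_mem _ (hmem F hF f m) (hmem G hG f m)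
  rw [show F (ι (truncTotal m f)) = G (ι (truncTotal m f)) from RingHom.congr_fun hp _] at h
  simpa using h

/-- Evaluation of power series at elements of the ideal of definition. -/
theorem exists_ps_eval {L B : Type u} [CommRing L] [CommRing B] {n : ℕ} (J : Ideal B) [IsAdicComplete J B]
    (σ : L →+* B) (z : Fin n → B) (hz : ∀ i, z i ∈ J) :
    ∃ F : MvPowerSeries (Fin n) L →+* B, (∀ a, F (C a) = σ a) ∧ ∀ i, F (X i) = z i := by
  have key : ∀ m : ℕ, ∃ g : MvPowerSeries (Fin n) L →+* B ⧸ J ^ m,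
      (∀ a, g (C a) = Ideal.Quotient.mk (J ^ m) (σ a)) ∧ ∀ i, g (X i) = Ideal.Quotient.mk (J ^ m) (z i) := by
    intro m
    letI : Algebra L (B ⧸ J ^ m) := ((Ideal.Quotient.mk (J ^ m)).comp σ).toAlgebra
    obtain ⟨g, -, hg⟩ := AdicFS.exists_eval (⊥ : Ideal L) (E := B ⧸ J ^ m) ⟨1, by rw [pow_one, Ideal.map_bot]⟩
      (fun i => Ideal.Quotient.mk (J ^ m) (z i)) (fun i => ⟨m, by
        rw [← map_pow, Ideal.Quotient.eq_zero_iff_mem]
        exact Ideal.pow_mem_pow (hz i) m⟩)
    exact ⟨g.toRingHom, fun a => g.commutes a, hg⟩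
  choose g hgC hgX using key
  refine ⟨IsAdicComplete.liftRingHom J g fun {a b} hab => ?_, fun a => ?_, fun i => ?_⟩
  · haveI : IsHausdorff (J.map (Ideal.Quotient.mk (J ^ a))) (B ⧸ J ^ a) :=
      isHausdorff_of_pow_eq_bot _ (m := a) (by rw [← Ideal.map_pow, Ideal.map_quotient_self])
    refine ps_ext (J.map (Ideal.Quotient.mk (J ^ a))) (fun i => ?_) (fun i => ?_) (fun c => ?_) fun i => ?_
    · rw [RingHom.comp_apply, hgX, Ideal.Quotient.factor_mk]
      exact Ideal.mem_map_of_mem _ (hz i)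
    · rw [hgX]
      exact Ideal.mem_map_of_mem _ (hz i)
    · rw [RingHom.comp_apply, hgC, hgC, Ideal.Quotient.factor_mk]
    · rw [RingHom.comp_apply, hgX, hgX, Ideal.Quotient.factor_mk]
  · refine eq_of_forall_sub_mem J fun m => ?_
    rw [← Ideal.Quotient.eq, IsAdicComplete.mk_liftRingHom, hgC]
  · refine eq_of_forall_sub_mem J fun m => ?_
    rw [← Ideal.Quotient.eq, IsAdicComplete.mk_liftRingHom, hgX]

variable {A : Type u} [CommRing A] {I : Ideal A}

/-- An element of the completion is congruent to an element of the ring. -/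
theorem exists_sub_mem (hfg : I.FG) (z : AdicCompletion I A) (m : ℕ) :
    ∃ a : A, z - algebraMap A (AdicCompletion I A) a ∈ (I.map (algebraMap A (AdicCompletion I A))) ^ m := by
  obtain ⟨a, ha⟩ := Submodule.Quotient.mk_surjective _ (AdicCompletion.eval I A m z)
  refine ⟨a, ?_⟩
  have h : z - algebraMap A (AdicCompletion I A) a ∈ (I ^ m • ⊤ : Submodule A (AdicCompletion I A)) := by
    rw [AdicCompletion.pow_smul_top_eq_ker_eval hfg, LinearMap.mem_ker, map_sub, sub_eq_zero, ← ha]
    rfl
  rw [Ideal.smul_top_eq_map, Submodule.restrictScalars_mem, Ideal.map_pow] at h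
  exact h

/-- Maps out of a completion are determined by the ring. -/
theorem cpl_ext (hfg : I.FG) {B : Type u} [CommRing B] (J : Ideal B) [IsHausdorff J B]
    {F G : AdicCompletion I A →+* B} (hF : ∀ a ∈ I, F (algebraMap A _ a) ∈ J) (hG : ∀ a ∈ I, G (algebraMap A _ a) ∈ J)
    (h : ∀ a, F (algebraMap A _ a) = G (algebraMap A _ a)) : F = G := by
  have hmem : ∀ (H : AdicCompletion I A →+* B), (∀ a ∈ I, H (algebraMap A _ a) ∈ J) → ∀ (m : ℕ),
      ((I.map (algebraMap A (AdicCompletion I A))) ^ m).map H ≤ J ^ m := by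
    intro H hH m
    rw [Ideal.map_pow]
    refine Ideal.pow_right_mono ?_ m
    rw [Ideal.map_map, Ideal.map_le_iff_le_comap]
    exact hH
  refine RingHom.ext fun z => eq_of_forall_sub_mem J fun m => ?_
  obtain ⟨a, ha⟩ := exists_sub_mem hfg z m
  have h1 := hmem F hF m (Ideal.mem_map_of_mem F ha)
  have h2 := hmem G hG m (Ideal.mem_map_of_mem G ha)
  rw [map_sub] at h1 h2
  have := Ideal.sub_mem _ h1 h2
  rw [h] at this
  simpa using this

/-- A map to a complete ring extends to the completion. -/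
theorem exists_cpl_lift (hfg : I.FG) {B : Type u} [CommRing B] (J : Ideal B) [IsAdicComplete J B] (φ : A →+* B)
    (hφ : ∀ a ∈ I, φ a ∈ J) :
    ∃ F : AdicCompletion I A →+* B, ∀ a, F (algebraMap A _ a) = φ a := by
  have hle : ∀ m, ∀ a ∈ I ^ m, (Ideal.Quotient.mk (J ^ m)).comp φ a = 0 := fun m a ha => by
    rw [RingHom.comp_apply, Ideal.Quotient.eq_zero_iff_mem]
    have h := Ideal.mem_map_of_mem φ ha
    rw [Ideal.map_pow] at h
    exact Ideal.pow_right_mono (Ideal.map_le_iff_le_comap.2 hφ) m h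
  let g : ∀ m, AdicCompletion I A →+* B ⧸ J ^ m := fun m =>
    (Ideal.Quotient.lift (I ^ m) ((Ideal.Quotient.mk (J ^ m)).comp φ) (hle m)).comp
      (AdicCompletion.evalₐ I m).toRingHom
  have hg : ∀ m (a : A), g m (algebraMap A _ a) = Ideal.Quotient.mk (J ^ m) (φ a) := fun m a => by
    simp only [g, RingHom.comp_apply, AlgHom.toRingHom_eq_coe, RingHom.coe_coe, AlgHom.commutes]
    rfl
  refine ⟨IsAdicComplete.liftRingHom J g fun {a b} hab => RingHom.ext fun z => ?_, fun a => ?_⟩
  · obtain ⟨c, hc⟩ := exists_sub_mem hfg z b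
    have hker : ∀ m, m ≤ b → g m z = Ideal.Quotient.mk (J ^ m) (φ c) := fun m hm => by
      have hle' : ((I.map (algebraMap A (AdicCompletion I A))) ^ b) ≤ RingHom.ker (g m) := by
        rw [← Ideal.map_pow, Ideal.map_le_iff_le_comap]
        intro x hx
        rw [Ideal.mem_comap, RingHom.mem_ker, hg]
        exact hle m x (Ideal.pow_le_pow_right hm hx)
      have h := hle' hc
      rw [RingHom.mem_ker, map_sub, sub_eq_zero, hg] at h
      exact h
    rw [RingHom.comp_apply, hker b le_rfl, hker a hab, Ideal.Quotient.factor_mk]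
  · refine eq_of_forall_sub_mem J fun m => ?_
    rw [← Ideal.Quotient.eq, IsAdicComplete.mk_liftRingHom, hg]

end GrothLib.CplBC5
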