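import Groth.Agent.Lib.CplBC5.BC
import Groth.Agent.Lib.FFDesc.Basic
import Groth.Prelude.Def_Curv2
import Mathlib.AlgebraicGeometry.Stalk
import Mathlib.AlgebraicGeometry.Morphisms.Flat
import Mathlib.AlgebraicGeometry.Morphisms.Preimmersion
import Mathlib.AlgebraicGeometry.Geometrically.Reduced
import Mathlib.AlgebraicGeometry.Pullbacks

/-!
# Local rings of a base change to a field extension
-/

set_option autoImplicit false
set_option linter.all false
set_option backward.isDefEq.respectTransparency false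
set_option maxHeartbeats 600000

universe u

open CategoryTheory CategoryTheory.Limits AlgebraicGeometry
open scoped TensorProduct

namespace GrothLib.CplBC5

attribute [local instance] Curv2.stalkAlgebra Curv2.resAlgebra

theorem fromSpecStalk_over (k : Type u) [Field k] (X : Scheme.{u}) [X.Over (Spec (CommRingCat.of k))] (x : X) :
    X.fromSpecStalk x ≫ (X ↘ Spec (CommRingCat.of k)) =
      Spec.map (CommRingCat.ofHom (Curv2.stalkMap k X x)) := by
  refine ext_of_isAffine ?_
  rw [Scheme.Hom.comp_appTop, Scheme.fromSpecStalk_appTop,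
    ← cancel_epi (Scheme.ΓSpecIso (CommRingCat.of k)).inv, ← Scheme.ΓSpecIso_inv_naturality]
  rfl

theorem isIso_stalkSpecializes (Y : Scheme.{u}) {a b : Y} (h : a = b) :
    IsIso (Y.presheaf.stalkSpecializes (specializes_of_eq h)) := by
  subst h
  rw [TopCat.Presheaf.stalkSpecializes_refl]
  infer_instance

variable (k : Type u) [Field k] (X : Scheme.{u}) [X.Over (Spec (CommRingCat.of k))]
  (K : Type u) [Field K] [Algebra k K]

theorem exists_chart (x : X) :
    ∃ ι : Spec (CommRingCat.of (X.presheaf.stalk x ⊗[k] K)) ⟶ Curv2.bc k X K,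
      (ι ≫ Curv2.bcFst k X K = Spec.map (CommRingCat.ofHom
        (algebraMap (X.presheaf.stalk x) (X.presheaf.stalk x ⊗[k] K))) ≫ X.fromSpecStalk x) ∧
      (ι ≫ Curv2.bcSnd k X K = Spec.map (CommRingCat.ofHom
        (Algebra.TensorProduct.includeRight : K →ₐ[k] X.presheaf.stalk x ⊗[k] K).toRingHom)) ∧
      Flat ι ∧ IsPreimmersion ι ∧
      ∀ z, Curv2.bcFst k X K z ⤳ x → z ∈ Set.range ι := by
  let m := pullback.map (X.fromSpecStalk x ≫ (X ↘ Spec (CommRingCat.of k)))
    (Spec.map (CommRingCat.ofHom (algebraMap k K))) (X ↘ Spec (CommRingCat.of k))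
    (Spec.map (CommRingCat.ofHom (algebraMap k K))) (X.fromSpecStalk x) (𝟙 _) (𝟙 _) (by simp) (by simp)
  have hm : IsPullback (pullback.fst _ _) m (X.fromSpecStalk x) (pullback.fst _ _) :=
    (IsPullback.of_right (by simpa [m] using (IsPullback.of_hasPullback (X.fromSpecStalk x ≫ (X ↘ Spec (CommRingCat.of k)))
      (Spec.map (CommRingCat.ofHom (algebraMap k K)))).flip) (by simp [m]) (IsPullback.of_hasPullback _ _).flip).flip
  haveI : Flat m := MorphismProperty.of_isPullback hm (GrothLib.FFDesc.flat_fromSpecStalk' X x)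
  haveI : IsPreimmersion m := MorphismProperty.of_isPullback hm inferInstance
  let e := pullback.congrHom (fromSpecStalk_over k X x)
    (rfl : Spec.map (CommRingCat.ofHom (algebraMap k K)) = _) ≪≫ pullbackSpecIso k (X.presheaf.stalk x) K
  refine ⟨e.inv ≫ m, ?_, ?_, inferInstance, inferInstance, ?_⟩
  · simp only [Category.assoc, m, pullback.lift_fst, e, Iso.trans_inv, pullback.congrHom_inv,
      pullback.map, Curv2.bcFst]
    rw [pullback.lift_fst_assoc]
    simp only [Category.assoc, Category.id_comp]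
    rw [← Category.assoc]
    exact congrArg (· ≫ X.fromSpecStalk x) (pullbackSpecIso_inv_fst k (X.presheaf.stalk x) K)
  · simp only [Category.assoc, m, pullback.lift_snd, e, Iso.trans_inv, pullback.congrHom_inv,
      pullback.map, Curv2.bcSnd, Category.comp_id]
    exact pullbackSpecIso_inv_snd k (X.presheaf.stalk x) K
  · intro z hz
    have hz' : Curv2.bcFst k X K z ∈ Set.range (X.fromSpecStalk x) := by
      rw [Scheme.range_fromSpecStalk]; exact hz
    obtain ⟨t, ht⟩ := hz'
    obtain ⟨w, -, hw⟩ := Scheme.exists_preimage_of_isPullback hm t z ht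
    refine ⟨e.hom w, ?_⟩
    rw [← Scheme.Hom.comp_apply, e.hom_inv_id_assoc, hw]

/-- The local ring at a point of the base change is a localisation of `O_x ⊗ K`, compatibly with both projections. -/
theorem exists_stalk_bc (y : ↥(Curv2.bc k X K)) :
    letI : (Curv2.bc k X K).Over (Spec (CommRingCat.of K)) := ⟨Curv2.bcSnd k X K⟩
    ∃ (g : X.presheaf.stalk (Curv2.bcFst k X K y) ⊗[k] K →+* (Curv2.bc k X K).presheaf.stalk y)
      (Q : Ideal (X.presheaf.stalk (Curv2.bcFst k X K y) ⊗[k] K)) (_ : Q.IsPrime),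
      (letI := g.toAlgebra; IsLocalization.AtPrime ((Curv2.bc k X K).presheaf.stalk y) Q) ∧
      g.comp (algebraMap (X.presheaf.stalk (Curv2.bcFst k X K y)) _) = ((Curv2.bcFst k X K).stalkMap y).hom ∧
      g.comp (Algebra.TensorProduct.includeRight : K →ₐ[k] _).toRingHom = Curv2.stalkMap K (Curv2.bc k X K) y ∧
      Q.comap (algebraMap (X.presheaf.stalk (Curv2.bcFst k X K y)) _) =
        IsLocalRing.maximalIdeal (X.presheaf.stalk (Curv2.bcFst k X K y)) := by
  letI : (Curv2.bc k X K).Over (Spec (CommRingCat.of K)) := ⟨Curv2.bcSnd k X K⟩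
  let x := Curv2.bcFst k X K y
  obtain ⟨ι, hfst, hsnd, hι, hι', hr⟩ := exists_chart k X K x
  obtain ⟨w, hw⟩ := hr y specializes_rfl
  let R := CommRingCat.of (X.presheaf.stalk x ⊗[k] K)
  let w' : Spec R := w
  have hbij : Function.Bijective (ι.stalkMap w).hom := by
    refine ⟨?_, ι.stalkMap_surjective w⟩
    algebraize [(ι.stalkMap w).hom]
    haveI : Module.Flat _ _ := Flat.stalkMap ι w
    haveI : IsLocalHom (algebraMap ((Curv2.bc k X K).presheaf.stalk (ι w))
        ((Spec R).presheaf.stalk w')) :=
      inferInstanceAs (IsLocalHom (ι.stalkMap w).hom)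
    haveI := Module.FaithfullyFlat.of_flat_of_isLocalHom
      (A := (Curv2.bc k X K).presheaf.stalk (ι w)) (B := (Spec R).presheaf.stalk w')
    exact FaithfulSMul.algebraMap_injective ((Curv2.bc k X K).presheaf.stalk (ι w))
        ((Spec R).presheaf.stalk w')
  haveI : IsIso (ι.stalkMap w) := (ConcreteCategory.isIso_iff_bijective _).2 hbij
  let gh : R ⟶ (Curv2.bc k X K).presheaf.stalk y :=
    StructureSheaf.toStalk R w' ≫ inv (ι.stalkMap w) ≫ ((Curv2.bc k X K).presheaf.stalkSpecializes (specializes_of_eq hw.symm))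
  have hgh : Spec.map gh ≫ ι = (Curv2.bc k X K).fromSpecStalk y := by
    simp only [gh, Spec.map_comp, Category.assoc]
    rw [← Spec.fromSpecStalk_eq' R w']
    show Spec.map _ ≫ Spec.map _ ≫ (Spec R).fromSpecStalk w ≫ ι = _
    rw [← Scheme.SpecMap_stalkMap_fromSpecStalk]
    simp only [← Spec.map_comp_assoc, IsIso.hom_inv_id_assoc, Category.assoc, IsIso.hom_inv_id, Category.comp_id]
    erw [Category.id_comp]
    exact Scheme.SpecMap_stalkSpecializes_fromSpecStalk _
  refine ⟨gh.hom, w'.asIdeal, w'.isPrime, ?_, ?_, ?_, ?_⟩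
  · letI : Algebra (X.presheaf.stalk x ⊗[k] K) ((Spec R).presheaf.stalk w') :=
      StructureSheaf.stalkAlgebra (R := R) w'
    haveI : IsLocalization w'.asIdeal.primeCompl ((Spec R).presheaf.stalk w') :=
      StructureSheaf.IsLocalization.to_stalk (R := R) w'
    letI := gh.hom.toAlgebra
    haveI : IsIso ((Curv2.bc k X K).presheaf.stalkSpecializes (specializes_of_eq hw.symm)) :=
      isIso_stalkSpecializes (Curv2.bc k X K) hw.symm
    let e : (Spec R).presheaf.stalk w' ≃+* (Curv2.bc k X K).presheaf.stalk y :=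
      (asIso (inv (ι.stalkMap w) ≫ ((Curv2.bc k X K).presheaf.stalkSpecializes (specializes_of_eq hw.symm)))).commRingCatIsoToRingEquiv
    exact IsLocalization.isLocalization_of_algEquiv w'.asIdeal.primeCompl
      ({ e with commutes' := fun _ => rfl } : (Spec R).presheaf.stalk w' ≃ₐ[X.presheaf.stalk x ⊗[k] K]
        (Curv2.bc k X K).presheaf.stalk y)
  · have h : Spec.map gh ≫ ι ≫ Curv2.bcFst k X K =
        Spec.map ((Curv2.bcFst k X K).stalkMap y) ≫ X.fromSpecStalk x := by
      rw [← Category.assoc, hgh]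
      exact (Scheme.SpecMap_stalkMap_fromSpecStalk _).symm
    rw [hfst, ← Spec.map_comp_assoc, cancel_mono] at h
    exact congrArg CommRingCat.Hom.hom (Spec.map_injective h)
  · have h : Spec.map gh ≫ ι ≫ Curv2.bcSnd k X K =
        Spec.map (CommRingCat.ofHom (Curv2.stalkMap K (Curv2.bc k X K) y)) := by
      rw [← Category.assoc, hgh]
      exact fromSpecStalk_over K (Curv2.bc k X K) y
    rw [hsnd, ← Spec.map_comp] at h
    exact congrArg CommRingCat.Hom.hom (Spec.map_injective h)
  · have h1 : X.fromSpecStalk x (Spec.map (CommRingCat.ofHom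
        (algebraMap (X.presheaf.stalk x) (X.presheaf.stalk x ⊗[k] K))) w) =
        X.fromSpecStalk x (IsLocalRing.closedPoint (X.presheaf.stalk x)) := by
      rw [Scheme.fromSpecStalk_closedPoint]
      show (Spec.map (CommRingCat.ofHom
        (algebraMap (X.presheaf.stalk x) (X.presheaf.stalk x ⊗[k] K))) ≫ X.fromSpecStalk x).base w = x
      rw [← hfst]
      exact congrArg (Curv2.bcFst k X K).base hw
    exact congrArg PrimeSpectrum.asIdeal ((X.fromSpecStalk x).isEmbedding.injective h1)

theorem isReduced_residue_tensor (x : X)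
    (hsep : GeometricallyReduced (Spec.map (CommRingCat.ofHom (Curv2.resMap k X x)))) :
    _root_.IsReduced (X.residueField x ⊗[k] K) := by
  haveI := hsep
  haveI : IsReduced (pullback
      (Spec.map (CommRingCat.ofHom (algebraMap k (X.residueField x))))
      (Spec.map (CommRingCat.ofHom (algebraMap k K)))) :=
    hsep.geometrically_isReduced _ _ _ (IsPullback.of_hasPullback _ _)
  haveI := isReduced_of_isOpenImmersion (pullbackSpecIso k (X.residueField x) K).inv
  exact (affine_isReduced_iff _).1 ‹_›

end GrothLib.CplBC5
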